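import Cfsg.Agent.Lib.Perm.E8Cores.Data
import Cfsg.Agent.Lib.Chevalley.Parabolic
import Cfsg.Agent.Lib.Chevalley.NormalForm

/-!
The group of type E8 over the field with two elements, graded by the coefficient at the branch node:
levels, words, and the subgroups of the filtration of the parabolic subgroup.
-/

set_option autoImplicit false

open scoped Matrix

namespace Cfsg.Agent.Perm.E8Cores

open Cfsg.Lie Cfsg.Agent.Chevalley.Eval Cfsg.Agent.Chevalley.Table Cfsg.Agent.Chevalley.Check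
  Cfsg.Agent.Chevalley.Cert Cfsg.Agent.Chevalley.Columns Cfsg.Agent.Chevalley.Root
  Cfsg.Agent.Chevalley.Relations Cfsg.Agent.Chevalley.Group Cfsg.Agent.Chevalley.Weight
  Cfsg.Agent.Chevalley.Unip Cfsg.Agent.Chevalley.Borel Cfsg.Agent.Chevalley.Weyl
  Cfsg.Agent.Chevalley.Graded Cfsg.Agent.Chevalley.Coef Cfsg.Agent.Chevalley.Parabolic

noncomputable section

/-- The datum. -/
abbrev D8 : ChevalleyDatum := Cfsg.Lie.chevE8

/-- The field. -/
abbrev F2 : Type := ZMod 2

/-- The ambient matrix group. -/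
abbrev GL8 : Type := GL D8.Idx F2

theorem hC : Certified D8 T8 := Cfsg.Agent.Chevalley.Types.E8.certified

theorem rank8 : D8.rank = 8 := rfl

theorem T8l : T8.l = 8 := rfl

theorem rk {i : ℕ} (h : i < 8) : i < D8.rank := rank8.symm ▸ h

theorem rkL {L : List ℕ} (h : ∀ i ∈ L, i < 8) : ∀ i ∈ L, i < D8.rank := fun i hi => rk (h i hi)

theorem nroots240 : D8.nroots = 240 := hC.n_eq.symm.trans rfl

theorem F2_eq_one {t : F2} (ht : t ≠ 0) : t = 1 := (Fin.eq_one_of_ne_zero (t : Fin 2) ht)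

theorem simple3' : T8.simple 3 = 130 := by decide +kernel

theorem lvT130 : lvT 130 = 1 := by decide +kernel

attribute [local irreducible] Cfsg.Lie.chevE8 Cfsg.Agent.Chevalley.Data.E8.tab

/-- The root element. -/
def x8 (r : ℕ) (t : F2) : GL8 := xg hC r t

/-- The monomial element of a word. -/
def n8 (L : List ℕ) : GL8 := nL hC F2 L

theorem x8_inv (r : ℕ) (t : F2) : (x8 r t)⁻¹ = x8 r t := by
  rw [x8, xg_inv hC, ZMod.neg_eq_self_mod_two]

theorem tor_eq_one (c : ℕ → F2ˣ) : tor D8 c = 1 := by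
  have h : c = 1 := funext fun i => Units.ext (by
    simpa using F2_eq_one (c i).ne_zero)
  rw [h, tor_one]

theorem H_bot : D8.diagonalSubgroup F2 = ⊥ := by
  rw [eq_bot_iff]
  intro g hg
  obtain ⟨c, hc⟩ := (mem_H_iff hC).1 hg
  rw [Subgroup.mem_bot, hc, tor_eq_one]

theorem ng_sq_one {i : ℕ} (hi : i < 8) :
    ng hC (D8.simple i) (1 : F2) * ng hC (D8.simple i) (1 : F2) = 1 := by
  obtain ⟨c, hc⟩ := ng_sq (F := F2) hC (rk hi)
  rw [hc, tor_eq_one]

theorem n8_nil : n8 [] = 1 := by simp [n8, nL]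

theorem n8_cons (i : ℕ) (L : List ℕ) : n8 (i :: L) = ng hC (D8.simple i) (1 : F2) * n8 L :=
  nL_cons hC i L

theorem n8_append (L L' : List ℕ) : n8 (L ++ L') = n8 L * n8 L' := nL_append hC L L'

theorem n8_rev {L : List ℕ} (hL : ∀ i ∈ L, i < 8) : (n8 L)⁻¹ = n8 L.reverse := by
  induction L with
  | nil => simp [n8_nil]
  | cons i L ih =>
    rw [List.reverse_cons, n8_append, n8_cons, mul_inv_rev, ih fun j hj => hL j (List.mem_cons_of_mem i hj),
      n8_cons, n8_nil, mul_one, inv_eq_of_mul_eq_one_right (ng_sq_one (hL i List.mem_cons_self))]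

/-- The action of a word on roots. -/
def w8 (L : List ℕ) (r : ℕ) : ℕ := wL D8 L r

theorem n8_conj {L : List ℕ} (hL : ∀ i ∈ L, i < 8) {r : ℕ} (hr : r < 240) (t : F2) :
    n8 L * x8 r t * (n8 L)⁻¹ = x8 (w8 L r) t := by
  obtain ⟨η, hη, h⟩ := nL_conj_x (F := F2) hC (rkL hL) (r := r) (nroots240.symm ▸ hr)
  rw [n8, x8, h, F2_eq_one hη, one_mul]
  rfl

theorem w8_lt {L : List ℕ} (hL : ∀ i ∈ L, i < 8) {r : ℕ} (hr : r < 240) : w8 L r < 240 :=
  nroots240 ▸ wL_lt hC (rkL hL) (nroots240.symm ▸ hr)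

theorem w8_eq_wT {L : List ℕ} (hL : ∀ i ∈ L, i < 8) {r : ℕ} (hr : r < 240) : w8 L r = wT L r := by
  induction L with
  | nil => rfl
  | cons i L ih =>
    have hL' : ∀ j ∈ L, j < 8 := fun j hj => hL j (List.mem_cons_of_mem i hj)
    show D8.reflectRoot i (w8 L r) = T8.refl i (wT L r)
    rw [hC.reflect_eq (rk (hL i List.mem_cons_self)) (nroots240.symm ▸ w8_lt hL' hr), ih hL']

/-- The coefficient of the linear form giving the level. -/
noncomputable def lform (j : ℕ) : ℤ := entry [[10, 15, 20, 30, 24, 18, 12, 6]] 0 j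

/-- The level of a root. -/
noncomputable def lv (r : ℕ) : ℤ := lin D8 lform r

theorem lv_eq {r : ℕ} (hr : r < 240) : lv r = lvT r := by
  have h := (Cfsg.Agent.Chevalley.Table.ieq_iff _ _).1 (of_allR lin_ok r hr)
  rw [← h, lv, lin, rank8, formT, T8l]
  have key : ∀ k ≤ 8,
      (∑ j ∈ Finset.range k, lform j * D8.cartan j r) =
        (Nat.rec 0 (fun j ih => Int.add (Int.mul (entry [[10, 15, 20, 30, 24, 18, 12, 6]] 0 j)
          (T8.A j r)) ih) k : ℤ) := by
    intro k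
    induction k with
    | zero => intro _; simp
    | succ k ih =>
      intro hk
      rw [Finset.sum_range_succ, ih (by omega)]
      show _ = entry _ 0 k * T8.A k r + _
      rw [hC.linked.A_eq k (show k < D8.rank by rw [rank8]; omega) r (nroots240.symm ▸ hr)]
      exact add_comm _ _
  exact key 8 le_rfl

theorem lv_cor {r : ℕ} (hr : r < 240) : lv r = (D8.coroot.getD r #[]).getD 3 0 := by
  rw [lv_eq hr, lvT, hC.linked.C_eq r (nroots240.symm ▸ hr) 3 (by rw [rank8]; omega)]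

theorem lv_neg {r : ℕ} (hr : r < 240) : lv (D8.neg r) = -lv r :=
  lin_neg hC lform (nroots240.symm ▸ hr)

theorem neg_lt {r : ℕ} (hr : r < 240) : D8.neg r < 240 :=
  nroots240 ▸ hC.neg_lt (nroots240.symm ▸ hr)

theorem lv_nonneg_of_pos {r : ℕ} (hr : r < 240) (hp : 0 < T8.phi r) : 0 ≤ lv r := by
  have h := of_allR sign_ok r hr
  simp only [Bool.or_eq_true, Bool.not_eq_true', isNN_iff] at h
  rw [lv_eq hr]
  refine h.resolve_left fun hb => ?_
  rw [(iblt_iff _ _).2 hp] at hb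
  exact Bool.noConfusion hb

theorem pos_of_lv {r : ℕ} (hr : r < 240) (h : 0 < lv r) : 0 < T8.phi r := by
  by_contra hcon
  have h0 := hC.phi_ne_zero (r := r) (nroots240.symm ▸ hr)
  have h1 := lv_nonneg_of_pos (neg_lt hr) (by rw [hC.phi_neg (nroots240.symm ▸ hr)]; omega)
  rw [lv_neg hr] at h1
  omega

theorem lv_le {r : ℕ} (hr : r < 240) : lv r ≤ 6 := by
  have h := (iblt_iff _ _).1 (of_allR bound_ok r hr)
  rw [lv_eq hr]
  omega

/-- The Levi nodes. -/
def J8 : Set ℕ := {j | j < 8 ∧ j ≠ 3}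

theorem inRootSub_iff {r : ℕ} (hr : r < 240) : D8.InRootSub J8 r ↔ lv r = 0 := by
  rw [lv_cor hr]
  constructor
  · exact fun h => h.2 3 (by rw [rank8]; omega) (fun h3 => h3.2 rfl)
  · intro h
    refine ⟨nroots240.symm ▸ hr, fun i hi hiJ => ?_⟩
    have : i = 3 := by
      by_contra hne
      exact hiJ ⟨by rw [rank8] at hi; exact hi, hne⟩
    rw [this, h]

theorem simple3 : D8.simple 3 = 130 := by
  rw [← hC.simple_eq (show 3 < D8.rank by rw [rank8]; omega), simple3']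

theorem lv130 : lv 130 = 1 := by
  rw [lv_eq (by omega), lvT130]

theorem lv_simple {j : ℕ} (hj : j ∈ J8) : lv (D8.simple j) = 0 := by
  have hj' : j < D8.rank := by rw [rank8]; exact hj.1
  exact (inRootSub_iff (nroots240 ▸ hC.simple_lt hj')).1 (simple_inRootSub hC hj' hj).1

theorem lv_reflect_J {j r : ℕ} (hj : j ∈ J8) (hr : r < 240) : lv (D8.reflectRoot j r) = lv r := by
  have e := lin_reflect hC lform (i := j) (r := r) (by rw [rank8]; exact hj.1) (nroots240.symm ▸ hr)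
  have h0 : lin D8 lform (D8.simple j) = 0 := lv_simple hj
  rw [h0, mul_zero, sub_zero] at e
  exact e

theorem lv_reflect_three {r : ℕ} (hr : r < 240) :
    lv (D8.reflectRoot 3 r) = lv r - D8.cartan 3 r := by
  have e := lin_reflect hC lform (i := 3) (r := r) (by rw [rank8]; omega) (nroots240.symm ▸ hr)
  have h1 : lin D8 lform (D8.simple 3) = 1 := simple3.symm ▸ lv130
  rw [h1, mul_one] at e
  exact e

theorem lv_word {L : List ℕ} (hL : ∀ i ∈ L, i ∈ J8) {r : ℕ} (hr : r < 240) :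
    lv (w8 L r) = lv r := by
  induction L with
  | nil => rfl
  | cons i L ih =>
    have hL' : ∀ j ∈ L, j ∈ J8 := fun j hj => hL j (List.mem_cons_of_mem i hj)
    show lv (D8.reflectRoot i (w8 L r)) = lv r
    rw [lv_reflect_J (hL i List.mem_cons_self) (w8_lt (fun j hj => (hL' j hj).1) hr), ih hL']

theorem okWord_iff {L : List ℕ} (h : okWord L = true) : ∀ i ∈ L, i ∈ J8 := by
  intro i hi
  have h1 := List.all_eq_true.1 h i hi
  simp only [Bool.and_eq_true, Nat.blt_eq, Bool.not_eq_true'] at h1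
  exact ⟨h1.1, fun e => by rw [e] at h1; simp at h1⟩

/-- The parabolic subgroup. -/
def P8 : Subgroup GL8 := D8.parabolicSubgroup F2 J8

/-- The subgroup generated by the root elements of level at least `m`. -/
noncomputable def V8 (m : ℤ) : Subgroup GL8 :=
  Subgroup.closure {g | ∃ (r : ℕ) (t : F2), r < 240 ∧ m ≤ lv r ∧ g = x8 r t}

theorem x8_mem_V {m : ℤ} {r : ℕ} (hr : r < 240) (h : m ≤ lv r) (t : F2) : x8 r t ∈ V8 m :=
  Subgroup.subset_closure ⟨r, t, hr, h, rfl⟩

theorem V8_anti {m m' : ℤ} (h : m ≤ m') : V8 m' ≤ V8 m :=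
  Subgroup.closure_mono fun _ ⟨r, t, hr, hl, hg⟩ => ⟨r, t, hr, h.trans hl, hg⟩

theorem P8_eq : P8 = V8 0 := by
  rw [P8, parabolic_eq hC, qSub, H_bot, bot_sup_eq, V8]
  apply le_antisymm <;> refine (Subgroup.closure_le _).2 ?_
  · rintro g ⟨r, t, h, hg⟩
    refine Subgroup.subset_closure ⟨r, t, ?_, ?_, eq_xg hC hg⟩
    · rcases h with h | h <;> exact nroots240 ▸ h.1
    · rcases h with h | h
      · have hr : r < 240 := nroots240 ▸ h.1
        exact lv_nonneg_of_pos hr ((hC.posRoot_iff h.1).1 h)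
      · have hr : r < 240 := nroots240 ▸ h.1
        exact ((inRootSub_iff hr).1 h).ge
  · rintro g ⟨r, t, hr, hl, rfl⟩
    refine Subgroup.subset_closure ⟨r, t, ?_, coe_xg hC r t⟩
    rcases hl.lt_or_eq with h | h
    · exact Or.inl ((hC.posRoot_iff (nroots240.symm ▸ hr)).2 (pos_of_lv hr h))
    · exact Or.inr ((inRootSub_iff hr).2 h.symm)

theorem V8_le_P {m : ℤ} (hm : 0 ≤ m) : V8 m ≤ P8 := by rw [P8_eq]; exact V8_anti hm

theorem V8_le_U {m : ℤ} (hm : 1 ≤ m) : V8 m ≤ D8.posUnipotent F2 := by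
  refine (Subgroup.closure_le _).2 ?_
  rintro g ⟨r, t, hr, hl, rfl⟩
  exact xg_mem_U hC (nroots240.symm ▸ hr) (pos_of_lv hr (by omega)) t

theorem U_le_P : D8.posUnipotent F2 ≤ P8 := le_sup_left.trans le_sup_left

theorem V8_seven : V8 7 = ⊥ := by
  rw [eq_bot_iff, V8, Subgroup.closure_le]
  rintro g ⟨r, t, hr, hl, rfl⟩
  have := lv_le hr
  omega

theorem n8_mem_P {L : List ℕ} (hL : ∀ i ∈ L, i ∈ J8) : n8 L ∈ P8 := by
  rw [n8, nL]
  refine list_prod_mem fun g hg => ?_
  obtain ⟨i, hi, rfl⟩ := List.mem_map.1 hg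
  exact ng_mem_parabolic hC (j := i) (by rw [rank8]; exact (hL i hi).1) (hL i hi)

/-- The branch reflection. -/
def g8 : GL8 := n8 [3]

theorem g8_sq : g8 * g8 = 1 := by
  rw [g8, n8_cons, n8_nil, mul_one]
  exact ng_sq_one (by omega)

theorem g8_inv : g8⁻¹ = g8 := inv_eq_of_mul_eq_one_right g8_sq

theorem g8_conj {r : ℕ} (hr : r < 240) (t : F2) :
    g8 * x8 r t * g8 = x8 (D8.reflectRoot 3 r) t := by
  have := n8_conj (L := [3]) (by simp) hr t
  rw [← g8, g8_inv] at this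
  exact this

theorem conj_prod (a : GL8) (u v : GL8) (ha : a * a = 1) :
    a * (u * v) * a = (a * u * a) * (a * v * a) := by
  calc a * (u * v) * a = a * u * (a * a) * v * a := by rw [ha, mul_one]; simp [mul_assoc]
    _ = _ := by simp [mul_assoc]

theorem conj_inv' (a : GL8) (u : GL8) (ha : a * a = 1) : a * u⁻¹ * a = (a * u * a)⁻¹ := by
  have hi : a⁻¹ = a := inv_eq_of_mul_eq_one_right ha
  rw [mul_inv_rev, mul_inv_rev, hi, mul_assoc]

theorem g8_V {m : ℤ} (hm : 2 ≤ m) {u : GL8} (hu : u ∈ V8 m) : g8 * u * g8 ∈ V8 (m - 1) := by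
  induction hu using Subgroup.closure_induction with
  | mem g hg =>
    obtain ⟨r, t, hr, hl, rfl⟩ := hg
    rw [g8_conj hr]
    refine x8_mem_V (nroots240 ▸ hC.reflect_lt (by rw [rank8]; omega) (nroots240.symm ▸ hr)) ?_ t
    rw [lv_reflect_three hr]
    have h := of_allR lower_ok r hr
    rw [(iblt_iff _ _).2 (show 0 < lvT r by rw [← lv_eq hr]; omega), cond_true, Bool.or_eq_true,
      iblt_iff, Nat.beq_eq, hC.linked.A_eq 3 (by rw [rank8]; omega) r (nroots240.symm ▸ hr)] at h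
    rcases h with h | h
    · subst h; rw [lv130] at hl; omega
    · omega
  | one => simp [g8_sq]
  | mul u v _ _ hu hv => rw [conj_prod _ _ _ g8_sq]; exact mul_mem hu hv
  | inv u _ hu => rw [conj_inv' _ _ g8_sq]; exact inv_mem hu

theorem g8_V_U {u : GL8} (hu : u ∈ V8 2) : g8 * u * g8 ∈ P8 :=
  V8_le_P (by omega) (g8_V le_rfl hu)

theorem conj_gen {r s : ℕ} (hr : r < 240) (hs : s < 240) (t u : F2) {m : ℤ} (hm : 1 ≤ m)
    (hr0 : 0 ≤ lv r) (hsm : m ≤ lv s) :
    ∃ w ∈ V8 (m + lv r), x8 r t * x8 s u * (x8 r t)⁻¹ = x8 s u * w := by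
  by_cases hsr : s = r
  · subst hsr
    refine ⟨1, one_mem _, ?_⟩
    rw [mul_one, x8, x8, xg_inv hC, ← xg_add hC, ← xg_add hC]
    congr 1
    ring
  have hr' : r < D8.nroots := nroots240.symm ▸ hr
  have hs' : s < D8.nroots := nroots240.symm ▸ hs
  have hsn : s ≠ D8.neg r := by
    intro e
    rw [e, lv_neg hr] at hsm
    omega
  refine ⟨((D8.commWord F2 r s t u).map fun p => xg hC p.1 p.2).prod, ?_, ?_⟩
  rotate_left
  · calc x8 r t * x8 s u * (x8 r t)⁻¹ = (x8 r t)⁻¹ * (x8 s u * x8 r t) := by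
          rw [x8_inv]; simp [mul_assoc]
      _ = (x8 r t)⁻¹ * (x8 r t * x8 s u *
            ((D8.commWord F2 r s t u).map fun p => xg hC p.1 p.2).prod) := by
          rw [x8, x8, xg_comm hC hr' hs' hsr hsn]
      _ = _ := by simp only [← mul_assoc, inv_mul_cancel, one_mul]
  · refine list_prod_mem fun g hg => ?_
    obtain ⟨p, hp, rfl⟩ := List.mem_map.1 hg
    simp only [ChevalleyDatum.commWord, List.mem_map] at hp
    obtain ⟨c, hc, rfl⟩ := hp
    obtain ⟨hk, -⟩ := commTerms_phi hC hr' hs' c hc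
    obtain ⟨i, j, hi, hj, hlin⟩ := lin_commTerms hC lform hr' hs' c hc
    refine x8_mem_V (nroots240 ▸ hk) ?_ _
    have e : lv c.1 = i * lv r + j * lv s := hlin
    have h1 : (1 : ℤ) ≤ i := by exact_mod_cast hi
    have h2 : (1 : ℤ) ≤ j := by exact_mod_cast hj
    rw [e]
    nlinarith

theorem P_normalizes_V {m : ℤ} (hm : 1 ≤ m) : P8 ≤ Subgroup.normalizer (V8 m : Set GL8) := by
  rw [P8_eq, V8, Subgroup.closure_le]
  rintro g ⟨r, t, hr, hl, rfl⟩
  have key : ∀ x ∈ V8 m, x8 r t * x * (x8 r t)⁻¹ ∈ V8 m := by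
    intro x hx
    induction hx using Subgroup.closure_induction with
    | mem y hy =>
      obtain ⟨s, u, hs, hsm, rfl⟩ := hy
      obtain ⟨w, hw, e⟩ := conj_gen hr hs t u hm hl hsm
      rw [e]
      exact mul_mem (x8_mem_V hs hsm u) (V8_anti (by omega) hw)
    | one => simp
    | mul a b _ _ ha hb =>
      simpa [mul_assoc] using mul_mem ha hb
    | inv a _ ha =>
      simpa [mul_assoc] using inv_mem ha
  refine Cfsg.Agent.Chevalley.Bruhat.mem_normalizer_of_conj (S := {g | ∃ (r : ℕ) (t : F2),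
    r < 240 ∧ m ≤ lv r ∧ g = x8 r t}) (fun x hx => key x (Subgroup.subset_closure hx)) ?_
  intro x hx
  have := key x (Subgroup.subset_closure hx)
  rwa [x8_inv] at this ⊢

theorem conj_mem_V {m : ℤ} (hm : 1 ≤ m) {p u : GL8} (hp : p ∈ P8) (hu : u ∈ V8 m) :
    p * u * p⁻¹ ∈ V8 m :=
  (Subgroup.mem_normalizer_iff.1 (P_normalizes_V hm hp) u).1 hu

end

end Cfsg.Agent.Perm.E8Cores
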