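import Cfsg.Agent.Lib.Perm.E8Cores.Basic

/-!
Coordinates on the layers of the filtration, and the drop of one level under a conjugate of the branch
reflection.
-/

set_option autoImplicit false

open scoped Matrix

namespace Cfsg.Agent.Perm.E8Cores

open Cfsg.Lie Cfsg.Agent.Chevalley.Eval Cfsg.Agent.Chevalley.Table Cfsg.Agent.Chevalley.Check
  Cfsg.Agent.Chevalley.Cert Cfsg.Agent.Chevalley.Columns Cfsg.Agent.Chevalley.Root
  Cfsg.Agent.Chevalley.Relations Cfsg.Agent.Chevalley.Group Cfsg.Agent.Chevalley.Weight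
  Cfsg.Agent.Chevalley.Unip Cfsg.Agent.Chevalley.Borel Cfsg.Agent.Chevalley.Weyl
  Cfsg.Agent.Chevalley.Graded

noncomputable section

attribute [local irreducible] Cfsg.Lie.chevE8 Cfsg.Agent.Chevalley.Data.E8.tab

theorem rootD {r : ℕ} (hr : r < 240) : r < D8.nroots := nroots240.symm ▸ hr

theorem reflect_lt8 {i r : ℕ} (hi : i < 8) (hr : r < 240) : D8.reflectRoot i r < 240 :=
  nroots240 ▸ hC.reflect_lt (rk hi) (rootD hr)

/-- The row used for the coordinate of a root. -/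
def cidx {r : ℕ} (hr : r < 240) : Fin D8.rank :=
  (exists_cor_ne (F := F2) hC (rootD hr)).choose

/-- The coordinate at a root. -/
def coord {r : ℕ} (hr : r < 240) (u : GL8) : F2 :=
  ((u : Matrix D8.Idx D8.Idx F2) - 1) (Sum.inl (cidx hr))
    (Sum.inr ⟨D8.neg r, hC.neg_lt (rootD hr)⟩)

/-- The degree of a coordinate. -/
abbrev dg8 : D8.Idx → ℤ := deg D8 lform

theorem V8_fil {m : ℤ} (hm : 0 ≤ m) (h1 : 1 ≤ m) : V8 m ≤ UT dg8 m hm := by
  refine (Subgroup.closure_le _).2 ?_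
  rintro g ⟨r, t, hr, hl, rfl⟩
  have key : ∀ u : F2, Fil dg8 m (D8.x F2 r u - 1) := by
    intro u a b hab
    obtain ⟨k, hk, hkd⟩ := x_deg hC lform (rootD hr) hab
    rw [hkd]
    have h2 : (1 : ℤ) ≤ k := by exact_mod_cast hk
    show m ≤ (k : ℤ) * lv r
    nlinarith
  exact ⟨key t, by rw [x8_inv]; exact key t⟩

theorem coord_wt {r : ℕ} (hr : r < 240) :
    dg8 (Sum.inl (cidx hr)) - dg8 (Sum.inr ⟨D8.neg r, hC.neg_lt (rootD hr)⟩) = lv r := by
  show (0 : ℤ) - lv (D8.neg r) = lv r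
  rw [lv_neg hr]
  ring

theorem coord_one {r : ℕ} (hr : r < 240) : coord hr 1 = 0 := by simp [coord]

theorem coord_mul {m : ℤ} (hm : 1 ≤ m) {r : ℕ} (hr : r < 240) (hl : lv r = m) {u v : GL8}
    (hu : u ∈ V8 m) (hv : v ∈ V8 m) : coord hr (u * v) = coord hr u + coord hr v := by
  have h0 : (0 : ℤ) ≤ m := by omega
  have hu' := (V8_fil h0 hm hu).1
  have hv' := (V8_fil h0 hm hv).1
  have e : ((u * v : GL8) : Matrix D8.Idx D8.Idx F2) - 1 =
      ((u : Matrix D8.Idx D8.Idx F2) - 1) * ((v : Matrix D8.Idx D8.Idx F2) - 1) +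
        (((u : Matrix D8.Idx D8.Idx F2) - 1) + ((v : Matrix D8.Idx D8.Idx F2) - 1)) := by
    rw [Units.val_mul]; noncomm_ring
  have hz : (((u : Matrix D8.Idx D8.Idx F2) - 1) * ((v : Matrix D8.Idx D8.Idx F2) - 1))
      (Sum.inl (cidx hr)) (Sum.inr ⟨D8.neg r, hC.neg_lt (rootD hr)⟩) = 0 := by
    by_contra hne
    have h2 := fil_mul dg8 hu' hv' _ _ hne
    rw [coord_wt hr, hl] at h2
    omega
  rw [coord, e, Matrix.add_apply, Matrix.add_apply, hz, zero_add]
  rfl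

theorem coord_inv {m : ℤ} (hm : 1 ≤ m) {r : ℕ} (hr : r < 240) (hl : lv r = m) {u : GL8}
    (hu : u ∈ V8 m) : coord hr u⁻¹ = coord hr u := by
  have h := coord_mul hm hr hl hu (inv_mem hu)
  rw [mul_inv_cancel, coord_one] at h
  rw [eq_comm, ← sub_eq_zero, sub_eq_add_neg, ZMod.neg_eq_self_mod_two]
  exact h.symm

theorem coord_high {m : ℤ} (hm : 1 ≤ m) {r : ℕ} (hr : r < 240) (hl : lv r < m) {u : GL8}
    (hu : u ∈ V8 m) : coord hr u = 0 := by
  by_contra hne
  have h0 : (0 : ℤ) ≤ m := by omega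
  have h2 := (V8_fil h0 hm hu).1 _ _ hne
  rw [coord_wt hr] at h2
  omega

theorem coord_x_self {r : ℕ} (hr : r < 240) (t : F2) : coord hr (x8 r t) = t := by
  have h := x_entry_cor (F := F2) hC (rootD hr) (cidx hr) t
  rw [cidx, F2_eq_one (exists_cor_ne (F := F2) hC (rootD hr)).choose_spec, one_mul] at h
  exact h

theorem coord_x_ne {r s : ℕ} (hr : r < 240) (hs : s < 240) (hsr : s ≠ r) (hneg : D8.neg r ≠ s)
    (t : F2) : coord hr (x8 s t) = 0 := by
  obtain ⟨j, hj⟩ : ∃ j, j = D8.neg r := ⟨_, rfl⟩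
  have hjD : j < D8.nroots := hj ▸ hC.neg_lt (rootD hr)
  have hjs : j ≠ D8.neg s := fun e => hsr (by
    have e' := congrArg D8.neg (hj.symm.trans e)
    rw [hC.neg_neg (rootD hr), hC.neg_neg (rootD hs)] at e'
    exact e'.symm)
  have h := congrFun (x_chain (F := F2) hC (rootD hs) hjD (hj.symm ▸ hneg) hjs t)
    (Sum.inl (cidx hr))
  rw [ev_eq hjD, Matrix.mulVec_single_one, Matrix.col_apply, Pi.add_apply, chainVec_inl, add_zero] at h
  have hfin : (⟨j, hjD⟩ : Fin D8.nroots) = ⟨D8.neg r, hC.neg_lt (rootD hr)⟩ := Fin.ext hj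
  rw [hfin] at h
  rw [coord, x8, coe_xg hC, Matrix.sub_apply, h]
  simp

theorem coord_gen {m : ℤ} (hm : 1 ≤ m) {r s : ℕ} (hr : r < 240) (hs : s < 240) (hlr : lv r = m)
    (hls : m ≤ lv s) (t : F2) : coord hr (x8 s t) = if s = r then t else 0 := by
  by_cases h : s = r
  · subst h
    rw [if_pos rfl]
    exact coord_x_self hs t
  · rw [if_neg h]
    refine coord_x_ne hr hs h ?_ t
    intro e
    rw [← e, lv_neg hr] at hls
    omega

/-- Conjugation carries the coordinate along. -/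
theorem coord_transfer {m m' : ℤ} (hm : 1 ≤ m) (hm' : 1 ≤ m') (c : GL8) (σ : ℕ → ℕ)
    (hσ : ∀ s, s < 240 → m ≤ lv s → ∀ t : F2, c * x8 s t * c⁻¹ = x8 (σ s) t ∧ σ s < 240 ∧ m' ≤ lv (σ s))
    {r : ℕ} (hr : r < 240) (hlr : lv r = m) (hr' : σ r < 240) (hlr' : lv (σ r) = m')
    (hinj : ∀ s, s < 240 → σ s = σ r → s = r) {u : GL8} (hu : u ∈ V8 m) :
    c * u * c⁻¹ ∈ V8 m' ∧ coord hr' (c * u * c⁻¹) = coord hr u := by
  induction hu using Subgroup.closure_induction with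
  | mem g hg =>
    obtain ⟨s, t, hs, hl, rfl⟩ := hg
    obtain ⟨e, h1, h2⟩ := hσ s hs hl t
    rw [e]
    refine ⟨x8_mem_V h1 h2 t, ?_⟩
    rw [coord_gen hm' hr' h1 hlr' h2, coord_gen hm hr hs hlr hl]
    by_cases h : s = r
    · rw [if_pos h, if_pos (congrArg σ h)]
    · rw [if_neg h, if_neg fun e' => h (hinj s hs e')]
  | one => simp [coord_one]
  | mul u v hu hv ihu ihv =>
    have e : c * (u * v) * c⁻¹ = (c * u * c⁻¹) * (c * v * c⁻¹) := by group
    rw [e]
    refine ⟨mul_mem ihu.1 ihv.1, ?_⟩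
    rw [coord_mul hm' hr' hlr' ihu.1 ihv.1, coord_mul hm hr hlr hu hv, ihu.2, ihv.2]
  | inv u hu ihu =>
    have e : c * u⁻¹ * c⁻¹ = (c * u * c⁻¹)⁻¹ := by group
    rw [e]
    refine ⟨inv_mem ihu.1, ?_⟩
    rw [coord_inv hm' hr' hlr' ihu.1, coord_inv hm hr hlr hu, ihu.2]

/-- The subgroup of a layer cut out by a set of roots. -/
def K8 (m : ℤ) (Q : ℕ → Prop) : Subgroup GL8 :=
  Subgroup.closure {g | ∃ (s : ℕ) (t : F2), s < 240 ∧ (m + 1 ≤ lv s ∨ (lv s = m ∧ Q s)) ∧ g = x8 s t}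

theorem K8_le (m : ℤ) (Q : ℕ → Prop) : K8 m Q ≤ V8 m :=
  (Subgroup.closure_le _).2 fun g ⟨s, t, hs, h, hg⟩ => hg ▸ x8_mem_V hs
    (by rcases h with h | ⟨h, -⟩ <;> omega) t

theorem K8_mono (m : ℤ) {Q Q' : ℕ → Prop} (h : ∀ s, s < 240 → lv s = m → Q s → Q' s) :
    K8 m Q ≤ K8 m Q' :=
  Subgroup.closure_mono fun _ ⟨s, t, hs, hc, hg⟩ =>
    ⟨s, t, hs, hc.imp_right fun hq => ⟨hq.1, h s hs hq.1 hq.2⟩, hg⟩

theorem K8_conj {m : ℤ} (hm : 1 ≤ m) (Q : ℕ → Prop) {r : ℕ} (hr : r < 240) (hl : m ≤ lv r) (t : F2)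
    {u : GL8} (hu : u ∈ K8 m Q) : x8 r t * u * (x8 r t)⁻¹ ∈ K8 m Q := by
  induction hu using Subgroup.closure_induction with
  | mem g hg =>
    obtain ⟨s, v, hs, hc, rfl⟩ := hg
    obtain ⟨w, hw, e⟩ := conj_gen hr hs t v hm (by omega)
      (by rcases hc with h | ⟨h, -⟩ <;> omega)
    rw [e]
    refine mul_mem (Subgroup.subset_closure ⟨s, v, hs, hc, rfl⟩) ?_
    have hle : V8 (m + lv r) ≤ K8 m Q := (Subgroup.closure_le _).2 fun y ⟨a, b, ha, hla, hy⟩ =>
      Subgroup.subset_closure ⟨a, b, ha, Or.inl (by omega), hy⟩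
    exact hle hw
  | one => simp
  | mul a b _ _ ha hb => simpa [mul_assoc] using mul_mem ha hb
  | inv a _ ha => simpa [mul_assoc] using inv_mem ha

theorem K8_peel {m : ℤ} (hm : 1 ≤ m) (Q : ℕ → Prop) {a : ℕ} (ha : a < 240) (hla : lv a = m) {u : GL8}
    (hu : u ∈ K8 m fun s => s = a ∨ Q s) : ∃ t : F2, ∃ w ∈ K8 m Q, u = x8 a t * w := by
  have hz : x8 a (0 : F2) = 1 := xg_zero hC a
  induction hu using Subgroup.closure_induction with
  | mem g hg =>
    obtain ⟨s, v, hs, hc, rfl⟩ := hg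
    rcases hc with h | ⟨h, rfl | hq⟩
    · exact ⟨0, _, Subgroup.subset_closure ⟨s, v, hs, Or.inl h, rfl⟩, by rw [hz, one_mul]⟩
    · exact ⟨v, 1, one_mem _, by rw [mul_one]⟩
    · exact ⟨0, _, Subgroup.subset_closure ⟨s, v, hs, Or.inr ⟨h, hq⟩, rfl⟩, by rw [hz, one_mul]⟩
  | one => exact ⟨0, 1, one_mem _, by rw [hz, one_mul]⟩
  | mul p q _ _ hp hq =>
    obtain ⟨t, w, hw, rfl⟩ := hp
    obtain ⟨t', w', hw', rfl⟩ := hq
    refine ⟨t + t', (x8 a t')⁻¹ * w * x8 a t' * w', mul_mem ?_ hw', ?_⟩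
    · have := K8_conj hm Q ha hla.ge t' hw
      rwa [x8_inv] at this ⊢
    · rw [x8, x8, x8, xg_add hC]; group
  | inv p _ hp =>
    obtain ⟨t, w, hw, rfl⟩ := hp
    refine ⟨t, x8 a t * w⁻¹ * (x8 a t)⁻¹, K8_conj hm Q ha hla.ge t (inv_mem hw), ?_⟩
    rw [mul_inv_rev, x8_inv, show x8 a t * (x8 a t * w⁻¹ * x8 a t) = (x8 a t * x8 a t) * w⁻¹ * x8 a t by
      group]
    have : x8 a t * x8 a t = 1 := by nth_rw 1 [← x8_inv]; rw [inv_mul_cancel]
    rw [this, one_mul]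

theorem coord_K8 {m : ℤ} (hm : 1 ≤ m) (Q : ℕ → Prop) {r : ℕ} (hr : r < 240) (hlr : lv r = m)
    (hQ : ¬ Q r) {u : GL8} (hu : u ∈ K8 m Q) : coord hr u = 0 := by
  induction hu using Subgroup.closure_induction with
  | mem g hg =>
    obtain ⟨s, v, hs, hc, rfl⟩ := hg
    rw [coord_gen hm hr hs hlr (by rcases hc with h | ⟨h, -⟩ <;> omega), if_neg]
    rintro rfl
    rcases hc with h | ⟨-, h⟩
    · omega
    · exact hQ h
  | one => exact coord_one hr
  | mul a b ha hb iha ihb =>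
    rw [coord_mul hm hr hlr (K8_le m Q ha) (K8_le m Q hb), iha, ihb, add_zero]
  | inv a ha iha => rw [coord_inv hm hr hlr (K8_le m Q ha), iha]

/-- An element of a layer with all coordinates zero lies in the next layer. -/
theorem V8_next {m : ℤ} (hm : 1 ≤ m) {u : GL8} (hu : u ∈ V8 m)
    (hz : ∀ r (hr : r < 240), lv r = m → coord hr u = 0) : u ∈ V8 (m + 1) := by
  suffices key : ∀ k b, 240 ≤ b + k → ∀ v ∈ K8 m (fun s => b ≤ s),
      (∀ r (hr : r < 240), lv r = m → coord hr v = 0) → v ∈ V8 (m + 1) by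
    refine key 240 0 (by omega) u ?_ hz
    have : V8 m ≤ K8 m (fun s => 0 ≤ s) := (Subgroup.closure_le _).2 fun g ⟨s, t, hs, hl, hg⟩ =>
      Subgroup.subset_closure ⟨s, t, hs, by
        rcases lt_or_eq_of_le hl with h | h
        · exact Or.inl (by omega)
        · exact Or.inr ⟨h.symm, Nat.zero_le _⟩, hg⟩
    exact this hu
  intro k
  induction k with
  | zero =>
    intro b hb v hv _
    have : K8 m (fun s => b ≤ s) ≤ V8 (m + 1) :=
      (Subgroup.closure_le _).2 fun g ⟨s, t, hs, hc, hg⟩ => hg ▸ x8_mem_V hs (by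
        rcases hc with h | ⟨-, h⟩
        · exact h
        · omega) t
    exact this hv
  | succ k ih =>
    intro b hb v hv hvz
    by_cases hbl : b < 240 ∧ lv b = m
    · obtain ⟨hb1, hb2⟩ := hbl
      obtain ⟨t, w, hw, rfl⟩ := K8_peel hm (fun s => b + 1 ≤ s) hb1 hb2
        (K8_mono m (Q' := fun s => s = b ∨ b + 1 ≤ s) (fun s _ _ h => by omega) hv)
      have h1 := hvz b hb1 hb2
      rw [coord_mul hm hb1 hb2 (x8_mem_V hb1 hb2.ge t) (K8_le _ _ hw), coord_x_self hb1,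
        coord_K8 hm _ hb1 hb2 (by omega) hw, add_zero] at h1
      rw [h1, show x8 b (0 : F2) = 1 from xg_zero hC b, one_mul] at hvz ⊢
      exact ih (b + 1) (by omega) w hw hvz
    · exact ih (b + 1) (by omega) v
        (K8_mono m (fun s hs hls h => by
          rcases eq_or_ne s b with rfl | hne
          · exact absurd ⟨hs, hls⟩ hbl
          · omega) hv) hvz

theorem move_spec {r : ℕ} (hr : r < 240) (h : 0 < lv r) :
    (∀ i ∈ word r, i ∈ J8) ∧ (lv r = 1 → w8 (word r) r = 130) ∧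
      (2 ≤ lv r → D8.cartan 3 (w8 (word r) r) = 1) := by
  have e := of_allR move_ok r hr
  rw [(iblt_iff _ _).2 (show 0 < lvT r by rw [← lv_eq hr]; exact h), cond_true, Bool.and_eq_true] at e
  have hw := okWord_iff e.1
  have hw8 : w8 (word r) r = wT (word r) r := w8_eq_wT (fun i hi => (hw i hi).1) hr
  refine ⟨hw, fun h1 => ?_, fun h2 => ?_⟩
  · have e2 := e.2
    rw [show iblt 1 (lvT r) = false by
      rw [Bool.eq_false_iff, Ne, iblt_iff, ← lv_eq hr]; omega, cond_false, Nat.beq_eq] at e2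
    rw [hw8]; exact e2
  · have e2 := e.2
    rw [(iblt_iff _ _).2 (show 1 < lvT r by rw [← lv_eq hr]; omega), cond_true,
      Cfsg.Agent.Chevalley.Table.ieq_iff] at e2
    have hlt : w8 (word r) r < 240 := w8_lt (fun i hi => (hw i hi).1) hr
    rw [hw8] at hlt ⊢
    rw [← hC.linked.A_eq 3 (rk (by omega)) _ (rootD hlt)]
    exact e2

theorem word_transfer {r : ℕ} (hr : r < 240) {m : ℤ} (hm : 1 ≤ m) (hlr : lv r = m) {L : List ℕ}
    (hL : ∀ i ∈ L, i ∈ J8) {u : GL8} (hu : u ∈ V8 m) :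
    n8 L * u * (n8 L)⁻¹ ∈ V8 m ∧
      coord (w8_lt (fun i hi => (hL i hi).1) hr) (n8 L * u * (n8 L)⁻¹) = coord hr u := by
  have hL8 : ∀ i ∈ L, i < 8 := fun i hi => (hL i hi).1
  refine coord_transfer hm hm (n8 L) (w8 L) (fun s hs hls t => ⟨n8_conj hL8 hs t, w8_lt hL8 hs, ?_⟩)
    hr hlr (w8_lt hL8 hr) (by rw [lv_word hL hr, hlr])
    (fun s hs e => wL_injective hC (rkL hL8) (rootD hs) (rootD hr) e) hu
  rw [lv_word hL hs]; exact hls

/-- An element of layer `m ≥ 2` all of whose conjugates stay in layer `m` under the branch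
reflection lies in layer `m + 1`. -/
theorem step {m : ℤ} (hm : 2 ≤ m) {u : GL8} (hu : u ∈ V8 m)
    (hc : ∀ p ∈ P8, g8 * (p * u * p⁻¹) * g8 ∈ V8 m) : u ∈ V8 (m + 1) := by
  refine V8_next (by omega) hu fun r hr hlr => ?_
  obtain ⟨hw, -, h2⟩ := move_spec hr (by omega)
  have h2' := h2 (by omega)
  obtain ⟨hy, hcy⟩ := word_transfer hr (by omega) hlr hw hu
  rw [← hcy]
  have hs0 : w8 (word r) r < 240 := w8_lt (fun i hi => (hw i hi).1) hr
  have hls0 : lv (w8 (word r) r) = m := by rw [lv_word hw hr, hlr]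
  have h3 : lv (D8.reflectRoot 3 (w8 (word r) r)) = m - 1 := by
    rw [lv_reflect_three hs0, hls0, h2']
  have ht := coord_transfer (m := m) (m' := m - 1) (by omega) (by omega) g8 (D8.reflectRoot 3)
    (fun s hs hls t => ⟨by rw [g8_inv]; exact g8_conj hs t, reflect_lt8 (by omega) hs, ?_⟩)
    hs0 hls0 (reflect_lt8 (by omega) hs0) h3 (fun s hs e => ?_) hy
  · rw [← ht.2]
    refine coord_high (m := m) (by omega) _ (by omega) ?_
    rw [g8_inv]
    exact hc _ (n8_mem_P hw)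
  · have hmem := g8_V (m := m) hm (x8_mem_V hs hls t)
    rw [lv_reflect_three hs]
    have h := of_allR lower_ok s hs
    rw [(iblt_iff _ _).2 (show 0 < lvT s by rw [← lv_eq hs]; omega), cond_true, Bool.or_eq_true,
      iblt_iff, Nat.beq_eq, hC.linked.A_eq 3 (rk (by omega)) s (rootD hs)] at h
    rcases h with h | h
    · subst h; rw [lv130] at hls; omega
    · omega
  · have := congrArg (D8.reflectRoot 3) e
    rwa [hC.reflect_reflect (rk (by omega)) (rootD hs), hC.reflect_reflect (rk (by omega)) (rootD hs0)]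
      at this

theorem neg130_not_mem : x8 (D8.neg 130) (1 : F2) ∉ P8 := by
  intro h
  have h130 : (130 : ℕ) < 240 := by omega
  have hx : x8 130 (1 : F2) ∈ V8 1 := x8_mem_V h130 lv130.ge 1
  have hg : g8 ∈ P8 := by
    have e : g8 = x8 130 1 * x8 (D8.neg 130) 1 * x8 130 1 := by
      rw [g8, n8_cons, n8_nil, mul_one, simple3, ng, x8, x8]
      simp [ZMod.neg_eq_self_mod_two]
    rw [e]
    exact mul_mem (mul_mem (V8_le_P (by omega) hx) h) (V8_le_P (by omega) hx)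
  have h1 := conj_mem_V le_rfl hg hx
  rw [g8_inv, g8_conj h130,
    show D8.reflectRoot 3 130 = D8.neg 130 from simple3 ▸ hC.reflect_simple (rk (by omega))] at h1
  have h2 : x8 (D8.neg 130) (1 : F2) = 1 := U_inf_V hC (V8_le_U le_rfl h1)
    (xg_mem_V hC (hC.neg_lt (rootD h130)) (by
      rw [hC.phi_neg (rootD h130)]
      have := pos_of_lv h130 (by rw [lv130]; omega)
      omega) 1)
  rw [x8, ← xg_zero hC (D8.neg 130)] at h2
  exact one_ne_zero (xg_injective hC (hC.neg_lt (rootD h130)) h2)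

/-- An element of the first layer all of whose conjugates stay in the parabolic subgroup under the
branch reflection lies in the second layer. -/
theorem step_one {u : GL8} (hu : u ∈ V8 1)
    (hc : ∀ p ∈ P8, g8 * (p * u * p⁻¹) * g8 ∈ P8) : u ∈ V8 (1 + 1) := by
  refine V8_next le_rfl hu fun r hr hlr => ?_
  obtain ⟨hw, h1, -⟩ := move_spec hr (by omega)
  obtain ⟨hy, hcy⟩ := word_transfer hr le_rfl hlr hw hu
  rw [← hcy]
  have hs : w8 (word r) r < 240 := w8_lt (fun i hi => (hw i hi).1) hr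
  have h130 : w8 (word r) r = 130 := h1 hlr
  obtain ⟨y, hydef⟩ : ∃ y, y = n8 (word r) * u * (n8 (word r))⁻¹ := ⟨_, rfl⟩
  rw [← hydef] at hy ⊢
  have hyP : g8 * y * g8 ∈ P8 := hydef ▸ hc _ (n8_mem_P hw)
  have hyK : y ∈ K8 1 fun s => s = w8 (word r) r ∨ s ≠ w8 (word r) r := by
    have : V8 1 ≤ K8 1 fun s => s = w8 (word r) r ∨ s ≠ w8 (word r) r :=
      (Subgroup.closure_le _).2 fun g ⟨s, t, hs, hl, hg⟩ => Subgroup.subset_closure ⟨s, t, hs, by
        rcases lt_or_eq_of_le hl with h | h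
        · exact Or.inl (by omega)
        · exact Or.inr ⟨h.symm, em _⟩, hg⟩
    exact this hy
  have hls : lv (w8 (word r) r) = 1 := by rw [h130, lv130]
  obtain ⟨t, w, hw', rfl⟩ := K8_peel le_rfl _ hs hls hyK
  rw [coord_mul le_rfl hs hls (x8_mem_V hs hls.ge t) (K8_le _ _ hw'), coord_x_self hs,
    coord_K8 le_rfl _ hs hls (fun h => h rfl) hw', add_zero]
  have hgw : g8 * w * g8 ∈ D8.posUnipotent F2 := by
    clear hydef hyP hyK hy
    induction hw' using Subgroup.closure_induction with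
    | mem g hg =>
      obtain ⟨a, b, ha, hc', rfl⟩ := hg
      rw [g8_conj ha]
      refine xg_mem_U hC (rootD (reflect_lt8 (by omega) ha))
        (hC.reflect_pos (rk (by omega)) (rootD ha) ?_ (pos_of_lv ha ?_)) b
      · rw [simple3]
        rintro rfl
        rcases hc' with h | ⟨-, h⟩
        · rw [lv130] at h; omega
        · exact h h130.symm
      · rcases hc' with h | ⟨h, -⟩ <;> omega
    | one => simp [g8_sq]
    | mul a b _ _ iha ihb => rw [conj_prod _ _ _ g8_sq]; exact mul_mem iha ihb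
    | inv a _ iha => rw [conj_inv' _ _ g8_sq]; exact inv_mem iha
  by_contra ht
  rw [F2_eq_one ht, conj_prod _ _ _ g8_sq, g8_conj hs, h130,
    show D8.reflectRoot 3 130 = D8.neg 130 from simple3 ▸ hC.reflect_simple (rk (by omega))] at hyP
  refine neg130_not_mem ?_
  have := mul_mem hyP (inv_mem (U_le_P hgw))
  rwa [mul_inv_cancel_right] at this

end

end Cfsg.Agent.Perm.E8Cores
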