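import Mathlib

/-!
The descending sequence of cores attached to a subgroup and an involution conjugating it to another one.
-/

set_option autoImplicit false

namespace Cfsg.Agent.Perm.E8Cores

variable {Γ : Type*} [Group Γ] (P : Subgroup Γ) (g : Γ)

/-- The sequence on the side of `P`. -/
def coreSeq : ℕ → Subgroup Γ
  | 0 => P
  | i + 1 => ((coreSeq i ⊓ (coreSeq i).map (MulAut.conj g).toMonoidHom).subgroupOf P).normalCore.map
      P.subtype

theorem mem_map_conj {K : Subgroup Γ} {x : Γ} :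
    x ∈ K.map (MulAut.conj g).toMonoidHom ↔ g⁻¹ * x * g ∈ K := by
  rw [Subgroup.mem_map_equiv, MulAut.conj_symm_apply]

theorem mem_core_iff {K : Subgroup Γ} {x : Γ} :
    x ∈ (K.subgroupOf P).normalCore.map P.subtype ↔ x ∈ P ∧ ∀ m ∈ P, m * x * m⁻¹ ∈ K := by
  constructor
  · rintro ⟨⟨y, hy⟩, hn, rfl⟩
    exact ⟨hy, fun m hm => hn ⟨m, hm⟩⟩
  · rintro ⟨hx, h⟩
    exact ⟨⟨x, hx⟩, fun m => h m m.2, rfl⟩

theorem mem_coreSeq_succ {i : ℕ} {x : Γ} :
    x ∈ coreSeq P g (i + 1) ↔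
      x ∈ P ∧ ∀ m ∈ P, m * x * m⁻¹ ∈ coreSeq P g i ∧ g⁻¹ * (m * x * m⁻¹) * g ∈ coreSeq P g i := by
  rw [coreSeq, mem_core_iff]
  simp only [Subgroup.mem_inf, mem_map_conj]

theorem coreSeq_le : ∀ i, coreSeq P g i ≤ P
  | 0 => le_rfl
  | _ + 1 => fun _ hx => ((mem_coreSeq_succ P g).1 hx).1

/-- The sequence on the other side is the conjugate one. -/
theorem coreSeq_conj (hg : g * g = 1) (i : ℕ) :
    (coreSeq P g (i + 1)).map (MulAut.conj g).toMonoidHom =
      ((coreSeq P g i ⊓ (coreSeq P g i).map (MulAut.conj g).toMonoidHom).subgroupOf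
          (P.map (MulAut.conj g).toMonoidHom)).normalCore.map
        (P.map (MulAut.conj g).toMonoidHom).subtype := by
  have hgi : g⁻¹ = g := inv_eq_of_mul_eq_one_right hg
  have hgg : ∀ y : Γ, g * (g * y) = y := fun y => by rw [← mul_assoc, hg, one_mul]
  ext x
  rw [mem_map_conj, mem_core_iff, mem_coreSeq_succ, mem_map_conj]
  simp only [Subgroup.mem_inf, mem_map_conj, hgi]
  refine and_congr_right fun _ => ⟨fun h m hm => ?_, fun h m hm => ?_⟩
  · have := h (g * m * g) hm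
    simp only [mul_inv_rev, hgi, mul_assoc, hgg, hg, mul_one] at this ⊢
    exact ⟨this.2, this.1⟩
  · have := h (g * m * g) (by simpa [mul_assoc, hgg, hg] using hm)
    simp only [mul_inv_rev, hgi, mul_assoc, hgg, hg, mul_one] at this ⊢
    exact ⟨this.2, this.1⟩

end Cfsg.Agent.Perm.E8Cores
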