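import Cfsg.Agent.Lib.Perm.E8Cores.Levi
import Cfsg.Agent.Lib.Perm.E8Cores.CoreSeq
import Cfsg.Agent.Lib.Chevalley.Types.SimpleE8

/-!
The core sequence of the branch parabolic subgroup of the group of type E8 over the field with two
elements, and the branch reflection: the sixth term is trivial and the fifth is not.
-/

set_option autoImplicit false

namespace Cfsg.Agent.Perm.E8Cores

open Cfsg.Lie Cfsg.Agent.Chevalley.Eval Cfsg.Agent.Chevalley.Table Cfsg.Agent.Chevalley.Check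
  Cfsg.Agent.Chevalley.Cert Cfsg.Agent.Chevalley.Columns Cfsg.Agent.Chevalley.Root
  Cfsg.Agent.Chevalley.Relations Cfsg.Agent.Chevalley.Group Cfsg.Agent.Chevalley.Weight
  Cfsg.Agent.Chevalley.Unip Cfsg.Agent.Chevalley.Borel Cfsg.Agent.Chevalley.Weyl

noncomputable section

theorem lvT_top : lvT 119 = 6 ∨ lvT 239 = 6 := by decide +kernel

attribute [local irreducible] Cfsg.Lie.chevE8 Cfsg.Agent.Chevalley.Data.E8.tab

/-- The group. -/
abbrev Grp8 : Type := ↥(D8.group F2)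

theorem finite_grp8 : Finite Grp8 :=
  have : Finite GL8 := inferInstance
  Subtype.finite

/-- The branch reflection as an element of the group. -/
def gg : Grp8 := ⟨g8, by
  rw [g8, n8_cons, n8_nil, mul_one]
  exact ng_mem_group hC (hC.simple_lt (rk (by omega))) 1⟩

/-- The maximal subgroup. -/
def M8 : Subgroup Grp8 := P8.subgroupOf (D8.group F2)

theorem P8_le_group : P8 ≤ D8.group F2 := by
  rw [P8_eq, V8, Subgroup.closure_le]
  rintro g ⟨r, t, hr, -, rfl⟩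
  exact xg_mem_group hC (rootD hr) t

theorem gg_sq : gg * gg = 1 := Subtype.ext (by rw [Subgroup.coe_mul, Subgroup.coe_one]; exact g8_sq)

theorem gg_inv : gg⁻¹ = gg := inv_eq_of_mul_eq_one_right gg_sq

theorem coe_gg_conj (y : Grp8) : ((gg⁻¹ * y * gg : Grp8) : GL8) = g8 * (y : GL8) * g8 := by
  rw [gg_inv, Subgroup.coe_mul, Subgroup.coe_mul]; rfl

theorem mem_M8 {x : Grp8} : x ∈ M8 ↔ (x : GL8) ∈ P8 := Subgroup.mem_subgroupOf

theorem upper : ∀ (i : ℕ) (x : Grp8), x ∈ coreSeq M8 gg (i + 1) → (x : GL8) ∈ V8 ((i : ℤ) + 2) := by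
  intro i
  induction i with
  | zero =>
    intro x hx
    obtain ⟨hxP, hx⟩ := (mem_coreSeq_succ _ _).1 hx
    have hst : Stays (x : GL8) := by
      intro p hp
      have := mem_M8.1 (hx ⟨p, P8_le_group hp⟩ (mem_M8.2 hp)).2
      rw [coe_gg_conj, Subgroup.coe_mul, Subgroup.coe_mul, Subgroup.coe_inv] at this
      exact this
    have h1 := stays_mem_V1 (mem_M8.1 hxP) hst
    simpa using step_one h1 hst
  | succ i ih =>
    intro x hx
    obtain ⟨-, hx⟩ := (mem_coreSeq_succ _ _).1 hx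
    have h0 : (x : GL8) ∈ V8 ((i : ℤ) + 2) := by
      have := ih _ (hx 1 (one_mem _)).1
      simpa using this
    have h1 := step (m := (i : ℤ) + 2) (by omega) h0 fun p hp => by
      have := ih _ (hx ⟨p, P8_le_group hp⟩ (mem_M8.2 hp)).2
      rw [coe_gg_conj, Subgroup.coe_mul, Subgroup.coe_mul, Subgroup.coe_inv] at this
      exact this
    have e : ((i + 1 : ℕ) : ℤ) + 2 = (i : ℤ) + 2 + 1 := by push_cast; ring
    rw [e]
    exact h1

theorem lower : ∀ (i : ℕ) (x : Grp8), (x : GL8) ∈ V8 ((i : ℤ) + 1) → x ∈ coreSeq M8 gg i := by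
  intro i
  induction i with
  | zero => intro x hx; exact mem_M8.2 (V8_le_P (by omega) hx)
  | succ i ih =>
    intro x hx
    rw [mem_coreSeq_succ]
    refine ⟨mem_M8.2 (V8_le_P (by omega) hx), fun m hm => ?_⟩
    have hc : ((m * x * m⁻¹ : Grp8) : GL8) ∈ V8 (((i + 1 : ℕ) : ℤ) + 1) := by
      rw [Subgroup.coe_mul, Subgroup.coe_mul, Subgroup.coe_inv]
      exact conj_mem_V (by omega) (mem_M8.1 hm) hx
    refine ⟨ih _ (V8_anti (by omega) hc), ih _ ?_⟩
    rw [coe_gg_conj]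
    have := g8_V (by omega) hc
    simpa using this

theorem six_bot : coreSeq M8 gg 6 = ⊥ := by
  rw [eq_bot_iff]
  intro x hx
  have h := upper 5 x hx
  norm_num at h
  rw [V8_seven, Subgroup.mem_bot] at h
  rw [Subgroup.mem_bot]
  exact Subtype.ext h

theorem five_ne_bot : coreSeq M8 gg 5 ≠ ⊥ := by
  obtain ⟨r, hr, hl⟩ : ∃ r, r < 240 ∧ lvT r = 6 :=
    lvT_top.elim (fun h => ⟨119, by omega, h⟩) fun h => ⟨239, by omega, h⟩
  intro h
  have hmem : x8 r (1 : F2) ∈ D8.group F2 := xg_mem_group hC (rootD hr) 1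
  have h5 : (⟨_, hmem⟩ : Grp8) ∈ coreSeq M8 gg 5 :=
    lower 5 _ (x8_mem_V hr (by rw [lv_eq hr, hl]; norm_num) 1)
  rw [h, Subgroup.mem_bot] at h5
  have h1 : x8 r (1 : F2) = 1 := congrArg Subtype.val h5
  rw [x8, ← xg_zero hC r] at h1
  exact one_ne_zero (xg_injective hC (rootD hr) h1)

theorem x130_conj_not_mem : ∃ y ∈ M8, gg⁻¹ * y * gg ∉ M8 := by
  have h130 : (130 : ℕ) < 240 := by omega
  have hmem : x8 130 (1 : F2) ∈ D8.group F2 := xg_mem_group hC (rootD h130) 1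
  refine ⟨⟨_, hmem⟩, mem_M8.2 (V8_le_P (by omega) (x8_mem_V h130 lv130.ge 1)), fun h => ?_⟩
  have h1 := mem_M8.1 h
  rw [coe_gg_conj, g8_conj h130,
    show D8.reflectRoot 3 130 = D8.neg 130 from simple3 ▸ hC.reflect_simple (rk (by omega))] at h1
  exact neg130_not_mem h1

theorem gg_not_mem : gg ∉ M8 := fun h => by
  obtain ⟨y, hy, hn⟩ := x130_conj_not_mem
  exact hn (mul_mem (mul_mem (inv_mem h) hy) h)

theorem M8_ne_map : M8 ≠ M8.map (MulAut.conj gg).toMonoidHom := fun h => by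
  obtain ⟨y, hy, hn⟩ := x130_conj_not_mem
  rw [h, mem_map_conj] at hy
  exact hn hy

theorem M8_coatom : IsCoatom M8 := by
  refine ⟨fun h => gg_not_mem (h ▸ Subgroup.mem_top _), fun M hM => ?_⟩
  obtain ⟨Q, hQ⟩ : ∃ Q, Q = Cfsg.Agent.Chevalley.Bruhat.bn (F := F2) hC := ⟨_, rfl⟩
  have hBM8 : Q.B ≤ M8 := by
    subst hQ
    intro b hb
    refine mem_M8.2 ?_
    have hb' : (b : GL8) ∈ D8.borelSubgroup F2 := Subgroup.mem_subgroupOf.1 hb
    rw [borel_eq] at hb'
    exact U_le_P hb'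
  have hB : Q.B ≤ M := hBM8.trans hM.le
  have hS : ∀ s ∈ Q.S, s ∈ M8 ∨ s = gg := by
    subst hQ
    rintro s ⟨i, hi, hs⟩
    by_cases h3 : i = 3
    · subst h3
      refine Or.inr (Subtype.ext ?_)
      rw [hs]
      show _ = g8
      rw [g8, n8_cons, n8_nil, mul_one]
    · refine Or.inl (mem_M8.2 ?_)
      rw [hs]
      exact Cfsg.Agent.Chevalley.Parabolic.ng_mem_parabolic hC hi ⟨rank8 ▸ hi, h3⟩
  have hg : gg ∈ M := by
    by_contra hn
    refine hM.not_ge ?_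
    rw [Cfsg.Agent.BN.Parabolic.le_parabolic_mem hB]
    exact sup_le hBM8 ((Subgroup.closure_le _).2 fun s hs =>
      (hS s hs.1).resolve_right fun e => hn (e ▸ hs.2))
  rw [Cfsg.Agent.BN.Parabolic.le_parabolic_mem hB]
  have hall : {s | s ∈ Q.S ∧ s ∈ M} = {s | s ∈ Q.S ∧ s ∈ (⊤ : Subgroup Grp8)} := by
    ext s
    refine ⟨fun h => ⟨h.1, Subgroup.mem_top _⟩, fun h => ⟨h.1, ?_⟩⟩
    rcases hS s h.1 with h' | h'
    · exact hM.le h'
    · exact h' ▸ hg
  rw [hall, ← Cfsg.Agent.BN.Parabolic.le_parabolic_mem le_top]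

theorem M8_core : M8.normalCore = ⊥ := by
  have : IsSimpleGroup Grp8 := (Cfsg.Agent.Chevalley.Types.SimpleE8.simple_group F2).1
  refine (IsSimpleGroup.eq_bot_or_eq_top_of_normal M8.normalCore inferInstance).resolve_right fun h => ?_
  exact gg_not_mem (Subgroup.normalCore_le M8 (h ▸ Subgroup.mem_top gg))

theorem coreSeq_conj8 (i : ℕ) :
    (coreSeq M8 gg (i + 1)).map (MulAut.conj gg).toMonoidHom =
      ((coreSeq M8 gg i ⊓ (coreSeq M8 gg i).map (MulAut.conj gg).toMonoidHom).subgroupOf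
          (M8.map (MulAut.conj gg).toMonoidHom)).normalCore.map
        (M8.map (MulAut.conj gg).toMonoidHom).subtype :=
  coreSeq_conj M8 gg gg_sq i

/-- The example of two conjugate maximal subgroups. -/
theorem example_E8 :
    ∃ (G : Type) (_ : Group G) (_ : Finite G) (M₁ M₂ : Subgroup G) (g : G) (A B : ℕ → Subgroup G),
      IsCoatom M₁ ∧ M₂ = M₁.map (MulAut.conj g).toMonoidHom ∧ M₁ ≠ M₂ ∧ M₁.normalCore = ⊥ ∧ A 0 = M₁ ∧ B 0 = M₂ ∧
      (∀ i, A (i + 1) = ((A i ⊓ B i).subgroupOf M₁).normalCore.map M₁.subtype) ∧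
      (∀ i, B (i + 1) = ((A i ⊓ B i).subgroupOf M₂).normalCore.map M₂.subtype) ∧ A 6 = ⊥ ∧ A 5 ≠ ⊥ :=
  ⟨Grp8, inferInstance, finite_grp8, M8, _, gg, coreSeq M8 gg,
    fun i => (coreSeq M8 gg i).map (MulAut.conj gg).toMonoidHom,
    M8_coatom, rfl, M8_ne_map, M8_core, rfl, rfl, fun _ => rfl, coreSeq_conj8, six_bot, five_ne_bot⟩

end

end Cfsg.Agent.Perm.E8Cores
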