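import Cfsg.Agent.Lib.Chevalley.Coef
import Cfsg.Agent.Lib.Chevalley.Types.E8

/-!
Finite data on the root system of type E8 graded by the coefficient at the branch node (index 3): for each
root of positive level a word in the other reflections moving it to the branch root (level one) or to a root
that the branch reflection lowers by one level, a longest word of the Levi component, and four words
separating the roots of level zero.
-/

set_option autoImplicit false

namespace Cfsg.Agent.Perm.E8Cores

open Cfsg.Agent.Chevalley.Table Cfsg.Agent.Chevalley.Eval Cfsg.Agent.Chevalley.Check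
  Cfsg.Agent.Chevalley.Coef

/-- The tables of type E8. -/
noncomputable abbrev T8 : Tab := Cfsg.Agent.Chevalley.Data.E8.tab

/-- A word for each root. -/
def wordTable : List (List ℕ) :=
  [[], [], [], [], [], [], [], [], [], [], [], [], [], [], [], [], [], [], [], [], [], [], [], 
  [], [], [], [], [], [], [], [], [], [], [], [], [], [], [], [], [], [], [], [], [], [], [], 
  [], [], [], [], [], [], [], [], [], [], [], [], [], [], [], [], [], [], [], [], [], [], [], 
  [], [], [], [], [], [], [], [], [], [], [], [], [], [], [], [], [], [], [], [], [], [], [], 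
  [], [], [], [], [], [], [], [], [], [], [], [], [], [], [], [], [], [], [], [], [], [], [], 
  [], [], [], [], [], [], [], [], [], [], [], [], [], [], [], [], [4], [4,5], [4,5,6], 
  [4,5,6,7], [], [2], [4,2], [4,5,2], [4,5,6,2], [4,5,6,7,2], [], [1], [4,1], [4,5,1], 
  [4,5,6,1], [4,5,6,7,1], [2,1], [4,2,1], [4,5,2,1], [4,5,6,2,1], [4,5,6,7,2,1], [], [], [], 
  [], [4], [4], [4], [4,5], [4,5], [4,5,6], [], [], [2,0], [4,2,0], [4,5,2,0], [4,5,6,2,0], 
  [4,5,6,7,2,0], [2,1,0], [4,2,1,0], [4,5,2,1,0], [4,5,6,2,1,0], [4,5,6,7,2,1,0], [], [], [], 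
  [], [4], [4], [4], [4,5], [4,5], [4,5,6], [2], [2], [2], [2], [4,2], [4,2], [4,2], [4,5,2], 
  [4,5,2], [4,5,6,2], [], [], [], [], [], [], [4], [4], [4], [4,5], [1], [1], [1], [1], [1], 
  [1], [4,1], [4,1], [4,1], [4,5,1], [], [], [], [], [4], [2], [2], [2], [2], [4,2], [], [1], 
  [2,0], [2,0], [2,0], [2,0], [4,2,0], [], [2], [1], [2,1], [], [4], [4,5], [4,5,6], 
  [4,5,6,7]]

/-- The word of a root. -/
def word (r : ℕ) : List ℕ := wordTable.getD r []

/-- A longest word of the Levi component. -/
def longest : List ℕ := [0, 1, 2, 0, 4, 5, 4, 6, 5, 4, 7, 6, 5, 4]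

/-- The separating words. -/
def seps : List (List ℕ) := [[], [2, 4], [1, 4, 5], [4, 5, 2, 6]]

/-- A word acting on root indices, by the tables. -/
noncomputable def wT (L : List ℕ) (r : ℕ) : ℕ := L.foldr T8.refl r

/-- The level, read off the tables. -/
noncomputable def lvT (r : ℕ) : ℤ := T8.C r 3

/-- The level after a word and the branch reflection. -/
noncomputable def lvS (L : List ℕ) (r : ℕ) : ℤ := lvT (T8.refl 3 (wT L r))

/-- The letters of a word avoid the branch node. -/
def okWord (L : List ℕ) : Bool := L.all fun i => Nat.blt i 8 && !Nat.beq i 3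

noncomputable def linChk : Bool :=
  allR 240 fun r => Cfsg.Agent.Chevalley.Table.ieq
    (formT T8 [[10, 15, 20, 30, 24, 18, 12, 6]] 0 r) (lvT r)

noncomputable def signChk : Bool :=
  allR 240 fun r => !iblt 0 (T8.phi r) || isNN (lvT r)

noncomputable def lowerChk : Bool :=
  allR 240 fun r => bif iblt 0 (lvT r) then Nat.beq r 130 || iblt (T8.A 3 r) 2 else true

noncomputable def moveChk : Bool :=
  allR 240 fun r => bif iblt 0 (lvT r) then
    okWord (word r) && (bif iblt 1 (lvT r) then ieq (T8.A 3 (wT (word r) r)) 1
      else Nat.beq (wT (word r) r) 130)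
    else true

noncomputable def longestChk : Bool :=
  allR 240 fun r => bif iblt 0 (T8.phi r) && ieq (lvT r) 0 then iblt (T8.phi (wT longest r)) 0 else true

noncomputable def sepChk : Bool :=
  allR 240 fun r => bif ieq (lvT r) 0 then
      (bif iblt 0 (T8.phi r) then seps.any fun v => iblt 0 (lvS v r)
        else seps.any fun v => iblt (lvS v r) 0) &&
      allR 240 fun s => bif ieq (lvT s) 0 && iblt (T8.phi r) (T8.phi s) then
        seps.any fun v => iblt (lvS v r) (lvS v s)
        else true
    else true

noncomputable def boundChk : Bool := allR 240 fun r => iblt (lvT r) 7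

theorem lin_ok : linChk = true := by decide +kernel
theorem sign_ok : signChk = true := by decide +kernel
theorem lower_ok : lowerChk = true := by decide +kernel
theorem move_ok : moveChk = true := by decide +kernel
theorem longest_ok : longestChk = true := by decide +kernel
theorem sep_ok : sepChk = true := by decide +kernel
theorem bound_ok : boundChk = true := by decide +kernel
theorem longest_word : okWord longest = true := by decide +kernel
theorem seps_word : seps.all okWord = true := by decide +kernel

end Cfsg.Agent.Perm.E8Cores
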