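import Cfsg.Agent.Lib.Perm.E8Cores.Coords
import Cfsg.Agent.Lib.Chevalley.Bruhat
import Cfsg.Agent.Lib.BN.Parabolic

/-!
An element of the parabolic subgroup whose conjugates stay in the parabolic subgroup under the branch
reflection lies in the unipotent radical.
-/

set_option autoImplicit false

open scoped Matrix

namespace Cfsg.Agent.Perm.E8Cores

open Cfsg.Lie Cfsg.Agent.Chevalley.Eval Cfsg.Agent.Chevalley.Table Cfsg.Agent.Chevalley.Check
  Cfsg.Agent.Chevalley.Cert Cfsg.Agent.Chevalley.Columns Cfsg.Agent.Chevalley.Root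
  Cfsg.Agent.Chevalley.Relations Cfsg.Agent.Chevalley.Group Cfsg.Agent.Chevalley.Weight
  Cfsg.Agent.Chevalley.Unip Cfsg.Agent.Chevalley.Borel Cfsg.Agent.Chevalley.Weyl
  Cfsg.Agent.Chevalley.Graded

noncomputable section

attribute [local irreducible] Cfsg.Lie.chevE8 Cfsg.Agent.Chevalley.Data.E8.tab

/-- The support of a word: the fundamental coroots go to combinations of them, root vectors to root
vectors. -/
def Rel (L : List ℕ) : D8.Idx → D8.Idx → Prop
  | Sum.inl _, Sum.inl _ => True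
  | Sum.inr u, Sum.inr s => (u : ℕ) = w8 L s
  | _, _ => False

theorem entry_mulVec {n R : Type} [Fintype n] [DecidableEq n] [Semiring R] (M : Matrix n n R)
    (x y : n) : M x y = (M *ᵥ Pi.single y 1) x := by
  rw [Matrix.mulVec_single_one]; rfl

theorem ng_support {i : ℕ} (hi : i < 8) {x y : D8.Idx}
    (h : (D8.nMat F2 (D8.simple i) 1) x y ≠ 0) : Rel [i] x y := by
  have hcol : (D8.nMat F2 (D8.simple i) 1) x y =
      (D8.nMat F2 (D8.simple i) 1 *ᵥ Pi.single y (1 : F2)) x := entry_mulVec _ x y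
  rw [hcol] at h
  rcases y with j | s
  · rw [← eh_eq j.2, n_h hC (rk hi) j.2 one_ne_zero, eh_eq j.2, eh_eq (rk hi)] at h
    rcases x with x | u
    · trivial
    · simp at h
  · rw [← ev_eq s.2, n_v hC (rk hi) s.2 one_ne_zero, ev_eq (hC.reflect_lt (rk hi) s.2)] at h
    rcases x with x | u
    · simp at h
    · show (u : ℕ) = D8.reflectRoot i s
      by_contra hne
      rw [Pi.smul_apply, Pi.single_eq_of_ne (by simp [Fin.ext_iff, hne])] at h
      simp at h

theorem n8_support {L : List ℕ} (hL : ∀ i ∈ L, i < 8) {x y : D8.Idx}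
    (h : ((n8 L : GL8) : Matrix D8.Idx D8.Idx F2) x y ≠ 0) : Rel L x y := by
  induction L generalizing x with
  | nil =>
    rw [n8_nil, Units.val_one] at h
    have hxy : x = y := by by_contra hne; exact h (Matrix.one_apply_ne hne)
    subst hxy
    rcases x with x | u
    · trivial
    · rfl
  | cons i L ih =>
    rw [n8_cons, Units.val_mul, Matrix.mul_apply] at h
    obtain ⟨z, -, hz⟩ := Finset.exists_ne_zero_of_sum_ne_zero h
    have h1 := left_ne_zero_of_mul hz
    rw [coe_ng hC] at h1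
    have r1 := ng_support (hL i List.mem_cons_self) h1
    have r2 := ih (fun j hj => hL j (List.mem_cons_of_mem i hj)) (right_ne_zero_of_mul hz)
    rcases x with x | u <;> rcases z with z | v <;> rcases y with y | s
    all_goals first
      | trivial
      | exact r1.elim
      | exact r2.elim
      | (show (u : ℕ) = D8.reflectRoot i (w8 L s)
         rw [← (show (v : ℕ) = w8 L s from r2)]
         exact r1)

/-- Matrices lowering no weight, with lowering inverse. -/
def lowGroup (w : D8.Idx → ℤ) : Subgroup GL8 where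
  carrier := {g | Fil w 0 (g : Matrix D8.Idx D8.Idx F2) ∧ Fil w 0 (↑g⁻¹ : Matrix D8.Idx D8.Idx F2)}
  one_mem' := by
    have : Fil w 0 (1 : Matrix D8.Idx D8.Idx F2) := fun a b h => by
      have hab : a = b := by by_contra hne; exact h (Matrix.one_apply_ne hne)
      rw [hab]; omega
    exact ⟨by rw [Units.val_one]; exact this, by rw [inv_one, Units.val_one]; exact this⟩
  inv_mem' h := ⟨h.2, by simpa using h.1⟩
  mul_mem' := by
    intro g g' hg hg'
    refine ⟨by rw [Units.val_mul]; simpa using fil_mul w hg.1 hg'.1, ?_⟩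
    rw [mul_inv_rev, Units.val_mul]
    simpa using fil_mul w hg'.2 hg.2

theorem x8_low {w : D8.Idx → ℤ} {r : ℕ} (t : F2)
    (h : ∀ (u : F2) (a b : D8.Idx), (D8.x F2 r u - 1) a b ≠ 0 → w b ≤ w a) :
    x8 r t ∈ lowGroup w := by
  have key : ∀ u : F2, Fil w 0 (D8.x F2 r u) := by
    intro u a b hab
    rcases eq_or_ne a b with rfl | hne
    · omega
    · have := h u a b (by rw [Matrix.sub_apply, Matrix.one_apply_ne hne, sub_zero]; exact hab)
      omega
  exact ⟨key t, by rw [x8_inv]; exact key t⟩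

theorem P_low : P8 ≤ lowGroup dg8 := by
  rw [P8_eq, V8, Subgroup.closure_le]
  rintro g ⟨r, t, hr, hl, rfl⟩
  refine x8_low t fun u a b hab => ?_
  obtain ⟨k, -, hkd⟩ := x_deg hC lform (rootD hr) hab
  have : (0 : ℤ) ≤ (k : ℤ) * lin D8 lform r := mul_nonneg (Int.natCast_nonneg k) hl
  show deg D8 lform b ≤ deg D8 lform a
  omega

theorem U_low : D8.posUnipotent F2 ≤ lowGroup (wt D8 T8) := by
  rw [ChevalleyDatum.posUnipotent, Subgroup.closure_le]
  rintro g ⟨r, t, hr, hg⟩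
  rw [eq_xg hC hg]
  refine x8_low t fun u a b hab => ?_
  obtain ⟨k, -, hkd⟩ := x_entry hC hab
  have : (0 : ℤ) ≤ (k : ℤ) * T8.phi r :=
    mul_nonneg (Int.natCast_nonneg k) ((hC.posRoot_iff hr.1).1 hr).le
  omega

/-- The property of the first term of the core sequence. -/
def Stays (a : GL8) : Prop := ∀ p ∈ P8, g8 * (p * a * p⁻¹) * g8 ∈ P8

theorem stays_conj {a : GL8} (ha : Stays a) {q : GL8} (hq : q ∈ P8) : Stays (q * a * q⁻¹) := by
  intro p hp
  have := ha (p * q) (mul_mem hp hq)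
  have e : p * (q * a * q⁻¹) * p⁻¹ = p * q * a * (p * q)⁻¹ := by group
  rwa [e]

theorem conj_weight {a : GL8} (ha : Stays a) {v : List ℕ} (hv : ∀ i ∈ v, i ∈ J8) {x y : D8.Idx}
    (hxy : (a : Matrix D8.Idx D8.Idx F2) x y ≠ 0) :
    (Sum.elim (fun _ => (0 : ℤ)) (fun s : Fin D8.nroots => lvS v s) y : ℤ) ≤
      Sum.elim (fun _ => (0 : ℤ)) (fun s : Fin D8.nroots => lvS v s) x := by
  have hv8 : ∀ i ∈ v, i < 8 := fun i hi => (hv i hi).1
  obtain ⟨L, hLdef⟩ : ∃ L, L = 3 :: v := ⟨_, rfl⟩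
  have hL : ∀ i ∈ L, i < 8 := by
    subst hLdef
    intro i hi
    rcases List.mem_cons.1 hi with rfl | hi
    · omega
    · exact hv8 i hi
  have hR : ∀ i ∈ L.reverse, i < 8 := fun i hi => hL i (List.mem_reverse.1 hi)
  obtain ⟨c, hc⟩ : ∃ c, c = n8 L * a * (n8 L)⁻¹ := ⟨_, rfl⟩
  have hcP : c ∈ P8 := by
    have h0 := ha (n8 v) (n8_mem_P hv)
    have e : n8 L = g8 * n8 v := by rw [hLdef, g8, ← n8_append]; rfl
    rw [hc, e, mul_inv_rev, g8_inv]
    simpa [mul_assoc] using h0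
  have hlow := (P_low hcP).1
  have ea : a = n8 L.reverse * c * n8 L := by rw [← n8_rev hL, hc]; group
  rw [ea, Units.val_mul, Units.val_mul, Matrix.mul_apply] at hxy
  obtain ⟨q, -, hq⟩ := Finset.exists_ne_zero_of_sum_ne_zero hxy
  have rq := n8_support hL (right_ne_zero_of_mul hq)
  have h2 := left_ne_zero_of_mul hq
  rw [Matrix.mul_apply] at h2
  obtain ⟨p, -, hp⟩ := Finset.exists_ne_zero_of_sum_ne_zero h2
  have rp := n8_support hR (left_ne_zero_of_mul hp)
  have hpq := hlow p q (right_ne_zero_of_mul hp)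
  have val : ∀ s : Fin D8.nroots, lvS v s = lv (w8 L s) := fun s => by
    have hs : (s : ℕ) < 240 := nroots240 ▸ s.2
    rw [lv_eq (w8_lt hL hs), w8_eq_wT hL hs, hLdef]
    rfl
  have ex : (Sum.elim (fun _ => (0 : ℤ)) (fun s : Fin D8.nroots => lvS v s) x : ℤ) = dg8 p := by
    rcases x with x | u <;> rcases p with p | w
    · rfl
    · exact rp.elim
    · exact rp.elim
    · show lvS v u = lv w
      rw [val]
      have e : (u : ℕ) = w8 L.reverse w := rp
      rw [e]
      congr 1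
      have := wL_reverse hC (rkL hR) w.2
      rw [List.reverse_reverse] at this
      exact this
  have ey : (Sum.elim (fun _ => (0 : ℤ)) (fun s : Fin D8.nroots => lvS v s) y : ℤ) = dg8 q := by
    rcases y with y | s <;> rcases q with q | w
    · rfl
    · exact rq.elim
    · exact rq.elim
    · show lvS v s = lv w
      rw [val]
      have e : (w : ℕ) = w8 L s := rq
      rw [e]
  rw [ex, ey]
  omega

theorem tri {a : GL8} (ha : Stays a) {x y : D8.Idx}
    (hxy : (a : Matrix D8.Idx D8.Idx F2) x y ≠ 0) (hx : dg8 x = 0) (hy : dg8 y = 0) :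
    wt D8 T8 y ≤ wt D8 T8 x := by
  by_contra hlt
  have hsep : ∀ s : Fin D8.nroots, lv s = 0 → _ := fun s h0 => by
    have hs : (s : ℕ) < 240 := nroots240 ▸ s.2
    have h := of_allR sep_ok (s : ℕ) hs
    rw [(Cfsg.Agent.Chevalley.Table.ieq_iff _ _).2 (show lvT (s : ℕ) = 0 by rw [← lv_eq hs]; exact h0),
      cond_true, Bool.and_eq_true] at h
    exact h
  have hword : ∀ v ∈ seps, ∀ i ∈ v, i ∈ J8 := fun v hv =>
    okWord_iff (List.all_eq_true.1 seps_word v hv)
  rcases x with x | r <;> rcases y with y | s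
  · simp [wt] at hlt
  · have hp : 0 < T8.phi s := by simpa [wt] using hlt
    have h := (hsep s hy).1
    rw [(iblt_iff _ _).2 hp, cond_true, List.any_eq_true] at h
    obtain ⟨v, hv, hlt'⟩ := h
    have h1 := conj_weight ha (hword v hv) hxy
    have h2 := (iblt_iff _ _).1 hlt'
    simp only [Sum.elim_inl, Sum.elim_inr] at h1
    omega
  · have hp : T8.phi r < 0 := by simpa [wt] using hlt
    have h := (hsep r hx).1
    rw [show iblt 0 (T8.phi r) = false by rw [Bool.eq_false_iff, Ne, iblt_iff]; omega, cond_false,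
      List.any_eq_true] at h
    obtain ⟨v, hv, hlt'⟩ := h
    have h1 := conj_weight ha (hword v hv) hxy
    have h2 := (iblt_iff _ _).1 hlt'
    simp only [Sum.elim_inl, Sum.elim_inr] at h1
    omega
  · have hp : T8.phi r < T8.phi s := by simpa [wt] using hlt
    have hs : (s : ℕ) < 240 := nroots240 ▸ s.2
    have h := of_allR (hsep r hx).2 (s : ℕ) hs
    rw [(Cfsg.Agent.Chevalley.Table.ieq_iff _ _).2 (show lvT (s : ℕ) = 0 by rw [← lv_eq hs]; exact hy),
      (iblt_iff _ _).2 hp, Bool.and_self, cond_true, List.any_eq_true] at h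
    obtain ⟨v, hv, hlt'⟩ := h
    have h1 := conj_weight ha (hword v hv) hxy
    have h2 := (iblt_iff _ _).1 hlt'
    simp only [Sum.elim_inr] at h1
    omega

theorem borel_eq : D8.borelSubgroup F2 = D8.posUnipotent F2 := by
  rw [ChevalleyDatum.borelSubgroup, H_bot, sup_bot_eq]

theorem bruhat_P {a : GL8} (ha : a ∈ P8) :
    ∃ b ∈ D8.posUnipotent F2, ∃ b' ∈ D8.posUnipotent F2, ∃ L : List ℕ,
      (∀ i ∈ L, i ∈ J8) ∧ a = b * n8 L * b' := by
  obtain ⟨S, hS⟩ : ∃ S : Set ↥(D8.group F2),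
      S = {n : ↥(D8.group F2) | ∃ i ∈ J8, (n : GL8) = ng hC (D8.simple i) 1} := ⟨_, rfl⟩
  have hSS : S ⊆ (Cfsg.Agent.Chevalley.Bruhat.bn (F := F2) hC).S := by
    rw [hS]; rintro n ⟨i, hi, hn⟩; exact ⟨i, rk hi.1, hn⟩
  have hle : P8 ≤ ((Cfsg.Agent.Chevalley.Bruhat.bn (F := F2) hC).parabolic S).map
      (D8.group F2).subtype := by
    refine sup_le (fun b hb => ⟨⟨b, B_le_group hC hb⟩, Subgroup.mem_sup_left hb, rfl⟩)
      ((Subgroup.closure_le _).2 ?_)
    rintro g ⟨j, hj, hj', hg⟩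
    have e : g = ng hC (D8.simple j) 1 := Units.ext (hg.trans (coe_ng hC _ _).symm)
    have hG : ng hC (D8.simple j) (1 : F2) ∈ D8.group F2 := ng_mem_group hC (hC.simple_lt hj') 1
    refine ⟨⟨_, hG⟩, Subgroup.mem_sup_right (Subgroup.subset_closure ?_), e.symm⟩
    rw [hS]
    exact ⟨j, hj, rfl⟩
  obtain ⟨a', ha', rfl⟩ := hle ha
  obtain ⟨n, hn, hdc⟩ := (Cfsg.Agent.BN.Parabolic.mem_parabolic_iff hSS a').1 ha'
  obtain ⟨b, hb, b', hb', rfl⟩ := Cfsg.Agent.BN.Basic.mem_dc.1 hdc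
  have hword : ∀ m ∈ Subgroup.closure S, ∃ L : List ℕ, (∀ i ∈ L, i ∈ J8) ∧ (m : GL8) = n8 L := by
    intro m hm
    induction hm using Subgroup.closure_induction with
    | mem x hx =>
      rw [hS] at hx
      obtain ⟨i, hi, hx⟩ := hx
      exact ⟨[i], by simpa using hi, by rw [n8_cons, n8_nil, mul_one, hx]⟩
    | one => exact ⟨[], by simp, by rw [n8_nil]; rfl⟩
    | mul x y _ _ hx hy =>
      obtain ⟨L, hL, ex⟩ := hx
      obtain ⟨M, hM, ey⟩ := hy
      exact ⟨L ++ M, by simpa [or_imp, forall_and] using ⟨hL, hM⟩, by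
        rw [n8_append, Subgroup.coe_mul, ex, ey]⟩
    | inv x _ hx =>
      obtain ⟨L, hL, ex⟩ := hx
      exact ⟨L.reverse, fun i hi => hL i (List.mem_reverse.1 hi), by
        rw [Subgroup.coe_inv, ex, n8_rev fun i hi => (hL i hi).1]⟩
  obtain ⟨L, hL, en⟩ := hword n hn
  refine ⟨b, ?_, b', ?_, L, hL, by rw [← en]; rfl⟩
  · rw [← borel_eq]; exact hb
  · rw [← borel_eq]; exact hb'

theorem stays_mem_U {a : GL8} (haP : a ∈ P8) (ha : Stays a) : a ∈ D8.posUnipotent F2 := by
  obtain ⟨b, hb, b', hb', L, hL, e⟩ := bruhat_P haP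
  have hL8 : ∀ i ∈ L, i < 8 := fun i hi => (hL i hi).1
  suffices hmono : ∀ s, s < 240 → lv s = 0 → T8.phi s ≤ T8.phi (w8 L s) by
    have hpos : ∀ i < D8.rank, 0 < T8.phi (wL D8 L (D8.simple i)) := by
      intro i hi
      have hs : D8.simple i < 240 := nroots240 ▸ hC.simple_lt hi
      by_cases h3 : i = 3
      · subst h3
        refine pos_of_lv (w8_lt hL8 hs) ?_
        show 0 < lv (w8 L (D8.simple 3))
        rw [lv_word hL hs, simple3, lv130]
        omega
      · have h0 := hmono _ hs (lv_simple ⟨rank8 ▸ hi, h3⟩)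
        have hp := hC.phi_simple hi
        change 0 < T8.phi (w8 L (D8.simple i))
        omega
    obtain ⟨c, hc⟩ := exists_tor_of_pos (F := F2) hC (rkL hL8) hpos
    have : n8 L = 1 := by rw [n8, hc, tor_eq_one]
    rw [e, this, mul_one]
    exact mul_mem hb hb'
  intro s hs hls
  have hsD : s < D8.nroots := rootD hs
  have hwD : w8 L s < D8.nroots := rootD (w8_lt hL8 hs)
  obtain ⟨x, hx⟩ : ∃ x, ((n8 L : GL8) : Matrix D8.Idx D8.Idx F2) x (Sum.inr ⟨s, hsD⟩) ≠ 0 := by
    by_contra hcon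
    simp only [not_exists, not_not] at hcon
    have h1 : ((↑(n8 L)⁻¹ : Matrix D8.Idx D8.Idx F2) * (n8 L : Matrix D8.Idx D8.Idx F2))
        (Sum.inr ⟨s, hsD⟩) (Sum.inr ⟨s, hsD⟩) = 0 := by
      rw [Matrix.mul_apply]
      exact Finset.sum_eq_zero fun z _ => by rw [hcon z, mul_zero]
    rw [Units.inv_mul, Matrix.one_apply_eq] at h1
    exact one_ne_zero h1
  have hxe : x = Sum.inr ⟨w8 L s, hwD⟩ := by
    have hrel := n8_support hL8 hx
    rcases x with x | u
    · exact hrel.elim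
    · exact congrArg Sum.inr (Fin.ext hrel)
  subst hxe
  have en : n8 L = b⁻¹ * a * b'⁻¹ := by rw [e]; group
  rw [en, Units.val_mul, Units.val_mul, Matrix.mul_apply] at hx
  obtain ⟨q, -, hq⟩ := Finset.exists_ne_zero_of_sum_ne_zero hx
  have h2 := left_ne_zero_of_mul hq
  rw [Matrix.mul_apply] at h2
  obtain ⟨p, -, hp⟩ := Finset.exists_ne_zero_of_sum_ne_zero h2
  have d1 := (P_low (U_le_P (inv_mem hb))).1 _ _ (left_ne_zero_of_mul hp)
  have d2 := (P_low haP).1 _ _ (right_ne_zero_of_mul hp)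
  have d3 := (P_low (U_le_P (inv_mem hb'))).1 _ _ (right_ne_zero_of_mul hq)
  have d0 : dg8 (Sum.inr ⟨s, hsD⟩) = 0 := hls
  have d4 : dg8 (Sum.inr ⟨w8 L s, hwD⟩) = 0 := by
    show lv (w8 L s) = 0
    rw [lv_word hL hs, hls]
  have w1 := (U_low (inv_mem hb)).1 _ _ (left_ne_zero_of_mul hp)
  have w2 := tri ha (right_ne_zero_of_mul hp) (by omega) (by omega)
  have w3 := (U_low (inv_mem hb')).1 _ _ (right_ne_zero_of_mul hq)
  have w0 : wt D8 T8 (Sum.inr ⟨s, hsD⟩) = T8.phi s := rfl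
  have w4 : wt D8 T8 (Sum.inr ⟨w8 L s, hwD⟩) = T8.phi (w8 L s) := rfl
  omega

/-- The part of the positive unipotent subgroup inside the Levi component. -/
def UJ : Subgroup GL8 :=
  Subgroup.closure {g | ∃ (r : ℕ) (t : F2), r < 240 ∧ 0 < T8.phi r ∧ lv r = 0 ∧ g = x8 r t}

theorem UJ_le_P : UJ ≤ P8 := by
  rw [P8_eq]
  exact Subgroup.closure_mono fun g ⟨r, t, hr, _, h0, hg⟩ => ⟨r, t, hr, h0.ge, hg⟩

theorem U_split8 {u : GL8} (hu : u ∈ D8.posUnipotent F2) : ∃ l ∈ UJ, ∃ v ∈ V8 1, u = l * v := by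
  induction hu using Subgroup.closure_induction with
  | mem g hg =>
    obtain ⟨r, t, hr, hgx⟩ := hg
    have hr' : r < 240 := nroots240 ▸ hr.1
    have hp := (hC.posRoot_iff hr.1).1 hr
    rw [eq_xg hC hgx]
    rcases (lv_nonneg_of_pos hr' hp).eq_or_lt with h | h
    · exact ⟨_, Subgroup.subset_closure ⟨r, t, hr', hp, h.symm, rfl⟩, 1, one_mem _, (mul_one _).symm⟩
    · exact ⟨1, one_mem _, _, x8_mem_V hr' (m := 1) (by omega) t, (one_mul _).symm⟩
  | one => exact ⟨1, one_mem _, 1, one_mem _, (one_mul _).symm⟩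
  | mul x y _ _ hx hy =>
    obtain ⟨l, hl, v, hv, rfl⟩ := hx
    obtain ⟨l', hl', v', hv', rfl⟩ := hy
    refine ⟨l * l', mul_mem hl hl', l'⁻¹ * v * l' * v', mul_mem ?_ hv', by group⟩
    simpa using conj_mem_V le_rfl (inv_mem (UJ_le_P hl')) hv
  | inv x _ hx =>
    obtain ⟨l, hl, v, hv, rfl⟩ := hx
    exact ⟨l⁻¹, inv_mem hl, l * v⁻¹ * l⁻¹, conj_mem_V le_rfl (UJ_le_P hl) (inv_mem hv), by group⟩

theorem stays_mem_V1 {a : GL8} (haP : a ∈ P8) (ha : Stays a) : a ∈ V8 1 := by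
  obtain ⟨l, hl, v, hv, e⟩ := U_split8 (stays_mem_U haP ha)
  have hw := okWord_iff longest_word
  have hn := n8_mem_P hw
  have h1 := stays_mem_U (mul_mem (mul_mem hn haP) (inv_mem hn)) (stays_conj ha hn)
  have h2 : n8 longest * v * (n8 longest)⁻¹ ∈ D8.posUnipotent F2 :=
    V8_le_U le_rfl (conj_mem_V le_rfl hn hv)
  have h3 : n8 longest * l * (n8 longest)⁻¹ ∈ D8.posUnipotent F2 := by
    have := mul_mem h1 (inv_mem h2)
    rw [e] at this
    convert this using 1
    group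
  have h4 : n8 longest * l * (n8 longest)⁻¹ ∈ D8.negUnipotent F2 := by
    have hle : UJ ≤ (D8.negUnipotent F2).comap (MulAut.conj (n8 longest)).toMonoidHom := by
      refine (Subgroup.closure_le _).2 ?_
      rintro g ⟨r, t, hr, hp, h0, rfl⟩
      rw [SetLike.mem_coe, Subgroup.mem_comap, MulEquiv.coe_toMonoidHom, MulAut.conj_apply]
      have hw8 : ∀ i ∈ longest, i < 8 := fun i hi => (hw i hi).1
      rw [n8_conj hw8 hr]
      refine xg_mem_V hC (rootD (w8_lt hw8 hr)) ?_ t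
      have hc := of_allR longest_ok r hr
      rw [(iblt_iff _ _).2 hp, (Cfsg.Agent.Chevalley.Table.ieq_iff _ _).2
        (show lvT r = 0 by rw [← lv_eq hr]; exact h0), Bool.and_self, cond_true, iblt_iff] at hc
      rw [w8_eq_wT hw8 hr]
      exact hc
    have h5 := hle hl
    rw [Subgroup.mem_comap, MulEquiv.coe_toMonoidHom, MulAut.conj_apply] at h5
    exact h5
  have hl1 : l = 1 := by
    have := U_inf_V hC h3 h4
    exact conj_eq_one_iff.1 this
  rw [e, hl1, one_mul]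
  exact hv

end

end Cfsg.Agent.Perm.E8Cores
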